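import Groth.Agent.Lib.CycFlat.Fibre
import Groth.Agent.Lib.LenTensor.Basic
import Mathlib.RingTheory.Flat.FaithfullyFlat.Algebra

/-!
Multiplicities of fibres, and composition of flat pullbacks of cycles.
-/

universe u

open CategoryTheory Limits AlgebraicGeometry TopologicalSpace

namespace GrothLib.CycFlat

variable {X Y Z : Scheme.{u}}

/-- the length of the fibre at a point -/
noncomputable abbrev fibLength (f : X ⟶ Y) (x : X) : ℕ∞ :=
  Module.length (X.presheaf.stalk x) (X.presheaf.stalk x ⧸ Ideal.map (f.stalkMap x).hom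
    (IsLocalRing.maximalIdeal (Y.presheaf.stalk (f x))))

theorem length_map_eq_mul (f : X ⟶ Y) [Flat f] (x : X) (I : Ideal (Y.presheaf.stalk (f x))) :
    Module.length (X.presheaf.stalk x) (X.presheaf.stalk x ⧸ I.map (f.stalkMap x).hom) =
      Module.length (Y.presheaf.stalk (f x)) (Y.presheaf.stalk (f x) ⧸ I) * fibLength f x := by
  algebraize [(f.stalkMap x).hom]
  haveI : Module.Flat (Y.presheaf.stalk (f x)) (X.presheaf.stalk x) := Flat.stalkMap f x
  haveI : IsLocalHom (algebraMap (Y.presheaf.stalk (f x)) (X.presheaf.stalk x)) := inferInstanceAs (IsLocalHom (f.stalkMap x).hom)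
  haveI : Module.FaithfullyFlat (Y.presheaf.stalk (f x)) (X.presheaf.stalk x) := Module.FaithfullyFlat.of_flat_of_isLocalHom
  have e : ∀ J : Ideal (X.presheaf.stalk x), J • (⊤ : Submodule (X.presheaf.stalk x) (X.presheaf.stalk x)) = J :=
    fun J => by simp
  have h := GrothLib.LenTensor.length_tensor (A := Y.presheaf.stalk (f x)) (B := X.presheaf.stalk x) (N := X.presheaf.stalk x)
    (Y.presheaf.stalk (f x) ⧸ I)
  rw [show Module.length (X.presheaf.stalk x) _ = _ from GrothLib.LenTensor.L_quotient (A := Y.presheaf.stalk (f x)) (B := X.presheaf.stalk x)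
    (N := X.presheaf.stalk x) I] at h
  rw [e, e] at h
  exact h

theorem fibLength_comp (f : X ⟶ Y) (g : Y ⟶ Z) [Flat f] (x : X) :
    fibLength (f ≫ g) x = fibLength g (f x) * fibLength f x := by
  rw [← length_map_eq_mul f x, Ideal.map_map, ← CommRingCat.hom_comp, ← Scheme.Hom.stalkMap_comp]
  rfl

theorem fibLength_congr {f g : X ⟶ Y} (h : f = g) (x : X) : fibLength f x = fibLength g x := by
  subst h; rfl

theorem pullFun_apply (f : X ⟶ Y) (δX : X → ℤ) (δY : Y → ℤ) (r : ℤ) (α : Y → ℤ) (x : X) :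
    Cyc.pullFun f δX δY r α x = if δX x = δY (f x) + r then α (f x) * ((fibLength f x).toNat : ℤ) else 0 := rfl

/-- the shift at generic points of fibres of a composite -/
theorem shift_comp (f : X ⟶ Y) (g : Y ⟶ Z) [Flat f] {δX : X → ℤ} {δY : Y → ℤ} {δZ : Z → ℤ} {c c' : ℤ}
    (hc : ∀ y, MaxFib g y → δY y = δZ (g y) + c) (hc' : ∀ x, MaxFib f x → δX x = δY (f x) + c') (x : X)
    (hx : MaxFib (f ≫ g) x) : δX x = δZ ((f ≫ g) x) + (c + c') := by
  obtain ⟨h1, h2⟩ := (maxFib_comp_iff f g x).1 hx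
  have e1 := hc' x h1
  have e2 := hc _ h2
  show δX x = δZ (g (f x)) + _
  omega

/-- flat pullbacks compose -/
theorem pullFun_comp (f : X ⟶ Y) (g : Y ⟶ Z) [Flat f] {δX : X → ℤ} {δY : Y → ℤ} {δZ : Z → ℤ} {c c' : ℤ}
    (hX : Cyc.IsDimFun X δX) (hY : Cyc.IsDimFun Y δY)
    (hc : ∀ y, MaxFib g y → δY y = δZ (g y) + c) (hc' : ∀ x, MaxFib f x → δX x = δY (f x) + c') (α : Z → ℤ) :
    Cyc.pullFun (f ≫ g) δX δZ (c + c') α = Cyc.pullFun f δX δY c' (Cyc.pullFun g δY δZ c α) := by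
  funext x
  have e0 := (eq_add_iff_maxFib (f ≫ g) hX (shift_comp f g hc hc') x).1
  have e1 := (eq_add_iff_maxFib f hX hc' x).1
  have e2 := (eq_add_iff_maxFib g hY hc (f x)).1
  rw [maxFib_comp_iff] at e0
  rw [pullFun_apply, pullFun_apply, pullFun_apply]
  by_cases h1 : MaxFib f x
  · by_cases h2 : MaxFib g (f x)
    · rw [if_pos (e0.2 ⟨h1, h2⟩), if_pos (e1.2 h1), if_pos (e2.2 h2), fibLength_comp, ENat.toNat_mul]
      push_cast
      show α (g (f x)) * _ = _
      ring
    · rw [if_neg (fun h => h2 (e0.1 h).2), if_pos (e1.2 h1), if_neg (fun h => h2 (e2.1 h)), zero_mul]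
  · rw [if_neg (fun h => h1 (e0.1 h).1), if_neg (fun h => h1 (e1.1 h))]

theorem pullFun_congr {f g : X ⟶ Y} (h : f = g) (δX : X → ℤ) (δY : Y → ℤ) (r : ℤ) (α : Y → ℤ) :
    Cyc.pullFun f δX δY r α = Cyc.pullFun g δX δY r α := by
  subst h; rfl

end GrothLib.CycFlat
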