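import Groth.Agent.Lib.Altitude.Fibre
import Groth.Agent.Lib.Dim.Scheme
import Groth.Agent.Lib.FibreBC.Basic

/-!
Generic points of components of fibres, shifts of dimension functions, relative dimension.
-/

universe u

open CategoryTheory Limits AlgebraicGeometry TopologicalSpace

namespace GrothLib.CycFlat

variable {X Y Z : Scheme.{u}}

/-- `x` is generic in a component of its fibre. -/
def MaxFib (f : X ⟶ Y) (x : X) : Prop := ∀ y, f y = f x → y ⤳ x → y = x

theorem apply_fiberι (f : X ⟶ Y) (y : Y) (z : f.fiber y) : f (f.fiberι y z) = y := by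
  have : f.fiberι y z ∈ f ⁻¹' {y} := f.range_fiberι y ▸ Set.mem_range_self z
  exact this

theorem maxFib_fiberι_iff (f : X ⟶ Y) (y : Y) (z : f.fiber y) :
    MaxFib f (f.fiberι y z) ↔ ∀ w, w ⤳ z → w = z := by
  constructor
  · intro h w hw
    exact (f.fiberι y).isEmbedding.injective
      (h _ ((apply_fiberι f y w).trans (apply_fiberι f y z).symm) (hw.map (f.fiberι y).continuous))
  · intro h w hw hwz
    obtain ⟨w', rfl⟩ : w ∈ Set.range (f.fiberι y) := by
      rw [f.range_fiberι]; exact hw.trans (apply_fiberι f y z)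
    rw [h w' ((f.fiberι y).isEmbedding.isInducing.specializes_iff.1 hwz)]

theorem maxFib_asFiber_iff (f : X ⟶ Y) (x : X) :
    MaxFib f x ↔ ∀ w, w ⤳ f.asFiber x → w = f.asFiber x := by
  rw [← maxFib_fiberι_iff, Scheme.Hom.fiberι_asFiber]

theorem closure_mem_irreducibleComponents {T : Type*} [TopologicalSpace T] [QuasiSober T] {z : T}
    (h : ∀ w, w ⤳ z → w = z) : closure {z} ∈ irreducibleComponents T := by
  refine ⟨isIrreducible_singleton.closure, fun S hS hle => ?_⟩
  obtain ⟨g, hg⟩ := QuasiSober.sober hS.closure isClosed_closure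
  have hgz : g ⤳ z := hg.specializes (subset_closure (hle (subset_closure rfl)))
  rw [h g hgz, IsGenericPoint] at hg
  exact subset_closure.trans hg.ge

theorem exists_maxFib_specializes (f : X ⟶ Y) (x : X) : ∃ x₀, MaxFib f x₀ ∧ f x₀ = f x ∧ x₀ ⤳ x := by
  let z := f.asFiber x
  obtain ⟨g, hg⟩ := QuasiSober.sober (isIrreducible_irreducibleComponent (x := z)) isClosed_irreducibleComponent
  refine ⟨f.fiberι (f x) g, (maxFib_fiberι_iff f (f x) g).2 fun w hw => ?_, apply_fiberι f (f x) g, ?_⟩
  · have h1 : irreducibleComponent z ⊆ closure {w} := by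
      rw [← hg.def]; exact hw.closure_subset
    have h2 := ((irreducibleComponent_mem_irreducibleComponents z).2 isIrreducible_singleton.closure h1)
    exact (hw.antisymm (hg.specializes (h2 (subset_closure rfl)))).eq
  · have := (hg.specializes mem_irreducibleComponent).map (f.fiberι (f x)).continuous
    rwa [Scheme.Hom.fiberι_asFiber] at this

theorem eq_add_iff_maxFib (f : X ⟶ Y) {δX : X → ℤ} {δY : Y → ℤ} (hX : Cyc.IsDimFun X δX) {c : ℤ}
    (hc : ∀ x, MaxFib f x → δX x = δY (f x) + c) (x : X) :
    (δX x = δY (f x) + c ↔ MaxFib f x) ∧ δX x ≤ δY (f x) + c := by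
  obtain ⟨x₀, h0, hf, hs⟩ := exists_maxFib_specializes f x
  have h := hc x₀ h0
  rw [hf] at h
  rcases eq_or_ne x₀ x with rfl | hne
  · exact ⟨⟨fun _ => h0, fun _ => h⟩, h.le⟩
  · have hlt := (hX x₀ x hs hne).1
    exact ⟨⟨fun h' => by omega, fun hm => absurd (hm x₀ hf hs) hne⟩, by omega⟩

theorem maxFib_comp_iff (f : X ⟶ Y) (g : Y ⟶ Z) [Flat f] (x : X) :
    MaxFib (f ≫ g) x ↔ MaxFib f x ∧ MaxFib g (f x) := by
  constructor
  · intro h
    refine ⟨fun y hy hs => h y (congrArg g hy) hs, fun y hy hs => ?_⟩
    obtain ⟨x', hx', hfx'⟩ := Flat.generalizingMap f hs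
    rw [← hfx', h x' (by show g (f x') = g (f x); rw [hfx', hy]) hx']
  · rintro ⟨h1, h2⟩ y hy hs
    exact h1 y (h2 _ hy (hs.map f.continuous)) hs

/-- transcendence degree of the residue field extension -/
noncomputable abbrev resTrdeg (f : X ⟶ Y) (x : X) : Cardinal.{u} :=
  letI := (f.residueFieldMap x).hom.toAlgebra
  Algebra.trdeg (Y.residueField (f x)) (X.residueField x)

theorem resTrdeg_comp (f : X ⟶ Y) (g : Y ⟶ Z) (x : X) :
    resTrdeg (f ≫ g) x = resTrdeg g (f x) + resTrdeg f x := by
  letI := (f.residueFieldMap x).hom.toAlgebra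
  letI := (g.residueFieldMap (f x)).hom.toAlgebra
  letI : Algebra (Z.residueField (g (f x))) (X.residueField x) := ((f ≫ g).residueFieldMap x).hom.toAlgebra
  haveI : IsScalarTower (Z.residueField (g (f x))) (Y.residueField (f x)) (X.residueField x) :=
    IsScalarTower.of_algebraMap_eq' (by
      show ((f ≫ g).residueFieldMap x).hom = _
      rw [Scheme.residueFieldMap_comp]; rfl)
  haveI : FaithfulSMul (Z.residueField (g (f x))) (Y.residueField (f x)) :=
    (faithfulSMul_iff_algebraMap_injective _ _).2 (RingHom.injective _)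
  haveI : FaithfulSMul (Y.residueField (f x)) (X.residueField x) :=
    (faithfulSMul_iff_algebraMap_injective _ _).2 (RingHom.injective _)
  exact (trdeg_add_eq (Z.residueField (g (f x))) (Y.residueField (f x)) (A := X.residueField x)).symm

theorem hasRelDim_iff (f : X ⟶ Y) [LocallyOfFiniteType f] (r : ℕ) :
    Cyc.HasRelDim f r ↔ ∀ x, MaxFib f x → resTrdeg f x = r := by
  constructor
  · intro h x hx
    obtain ⟨n, hn, hdim⟩ := GrothLib.Altitude.exists_trdeg_eq_dim_closure f x
    have := h (f x) _ (closure_mem_irreducibleComponents ((maxFib_asFiber_iff f x).1 hx))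
    rw [hdim] at this
    have hnr : n = r := by exact_mod_cast this
    exact hnr ▸ hn
  · intro h y T hT
    obtain ⟨z, hz⟩ := QuasiSober.sober hT.1 (isClosed_of_mem_irreducibleComponents T hT)
    let g : f.fiber y ⟶ Spec (CommRingCat.of (Y.residueField y)) := f.fiberToSpecResidueField y
    haveI : LocallyOfFiniteType g := MorphismProperty.pullback_snd f (Y.fromSpecResidueField y) inferInstance
    obtain ⟨n, hn, htr⟩ := GrothLib.AffDom.exists_dim_closure (K := Y.residueField y) g z
    have hm : MaxFib f (f.fiberι y z) := (maxFib_fiberι_iff f y z).2 fun w hw => by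
      have h1 : T ⊆ closure {w} := by rw [← hz.def]; exact hw.closure_subset
      have h2 := hT.2 isIrreducible_singleton.closure h1
      exact (hw.antisymm (hz.specializes (h2 (subset_closure rfl)))).eq
    have h3 := (GrothLib.Altitude.trdeg_eq_ptTrdeg_fiber f y z).symm.trans (h _ hm)
    rw [← hz.def, hn]
    have h4 : (n : Cardinal.{u}) = r := htr.symm.trans h3
    exact_mod_cast h4

theorem hasRelDim_comp (f : X ⟶ Y) (g : Y ⟶ Z) [Flat f] [LocallyOfFiniteType f] [LocallyOfFiniteType g]
    {r s : ℕ} (hr : Cyc.HasRelDim f r) (hs : Cyc.HasRelDim g s) : Cyc.HasRelDim (f ≫ g) (r + s) := by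
  rw [hasRelDim_iff] at hr hs ⊢
  intro x hx
  obtain ⟨h1, h2⟩ := (maxFib_comp_iff f g x).1 hx
  rw [resTrdeg_comp, hr x h1, hs _ h2, Nat.cast_add, add_comm]

theorem shift_of_hasRelDim (f : X ⟶ Y) [LocallyOfFiniteType f] {r : ℕ} (hr : Cyc.HasRelDim f r)
    {δX : X → ℤ} {δY : Y → ℤ} (hδ : Cyc.DeltaCompat f δX δY) (x : X) (hx : MaxFib f x) :
    δX x = δY (f x) + r := by
  obtain ⟨n, hn, h⟩ := hδ x
  have : n = r := Nat.cast_injective (R := Cardinal) (hn.symm.trans ((hasRelDim_iff f r).1 hr x hx))
  omega

theorem flat_to_spec_residueField {S : Scheme.{u}} {s : S} {W : Scheme.{u}} (t : W ⟶ Spec (S.residueField s)) :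
    Flat t :=
  GrothLib.CurveLocus.flat_to_spec_field (k := S.residueField s) t

/-- Generic points of components over a field keep their dimension under a field extension. -/
theorem dim_closure_eq_of_fieldExt {K L : Type u} [Field K] [Field L] [Algebra K L] {W W' : Scheme.{u}}
    (q : W ⟶ Spec (CommRingCat.of K)) [LocallyOfFiniteType q] {p' : W' ⟶ Spec (CommRingCat.of L)} {i : W' ⟶ W}
    (hpb : IsPullback p' i (Spec.map (CommRingCat.ofHom (algebraMap K L))) q) (z' : W')
    (hz' : ∀ w, w ⤳ z' → w = z') :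
    topologicalKrullDim (closure {z'} : Set W') = topologicalKrullDim (closure {i z'} : Set W) := by
  let e := hpb.isoPullback
  let π := pullback.snd (Spec.map (CommRingCat.ofHom (algebraMap K L))) q
  have hei : ∀ w, π (e.hom w) = i w := fun w => by
    rw [← Scheme.Hom.comp_apply, hpb.isoPullback_hom_snd]
  have hinv : ∀ w, e.hom (e.inv w) = w := fun w => by
    rw [← Scheme.Hom.comp_apply, e.inv_hom_id]; rfl
  let S : Set W := closure {i z'}
  let P : Set ↥(pullback (Spec.map (CommRingCat.ofHom (algebraMap K L))) q) := π ⁻¹' S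
  have hmem : e.hom z' ∈ P := by
    show π (e.hom z') ∈ S
    rw [hei]; exact subset_closure rfl
  have hPc : IsClosed P := isClosed_closure.preimage π.continuous
  let V : Set P := closure {(⟨e.hom z', hmem⟩ : P)}
  have himg : Subtype.val '' V = closure {e.hom z'} := by
    rw [← hPc.isClosedEmbedding_subtypeVal.closure_image_eq, Set.image_singleton]
  have hV : V ∈ irreducibleComponents P := by
    haveI : QuasiSober P := hPc.isClosedEmbedding_subtypeVal.quasiSober
    refine closure_mem_irreducibleComponents fun w hw => Subtype.ext ?_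
    have h2 : w.1 ⤳ e.hom z' := hw.map continuous_subtype_val
    have h3 : e.inv w.1 = z' := hz' _ (by
      refine (e.hom.isEmbedding.isInducing.specializes_iff).1 ?_
      rw [hinv]; exact h2)
    show w.1 = e.hom z'
    rw [← h3, hinv]
  rw [← GrothLib.Dim.topologicalKrullDim_component_preimage q (S := S) isClosed_closure
    isIrreducible_singleton.closure V hV]
  refine (GrothLib.Dim.IsEmbedding.topologicalKrullDim_eq (f := fun w : (closure {z'} : Set W') => e.hom w.1)
    (e.hom.isEmbedding.comp Topology.IsEmbedding.subtypeVal) (S := closure {e.hom z'}) ?_).trans ?_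
  · rw [Set.range_comp' (e.hom), Subtype.range_coe]
    exact (e.hom.homeomorph.image_closure _).trans (congrArg closure Set.image_singleton)
  · refine (GrothLib.Dim.IsEmbedding.topologicalKrullDim_eq (f := fun w : V => w.1.1)
      (Topology.IsEmbedding.subtypeVal.comp Topology.IsEmbedding.subtypeVal) (S := closure {e.hom z'}) ?_).symm
    rw [Set.range_comp' Subtype.val, Subtype.range_coe, himg]

section BaseChange

variable {X' Y' : Scheme.{u}} {f : X ⟶ Y} {g : Y' ⟶ Y} {f' : X' ⟶ Y'} {g' : X' ⟶ X}

/-- Generic points of fibres of a base change map to generic points of fibres. -/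
theorem maxFib_of_isPullback (hc : IsPullback g' f' f g) {x' : X'} (hx' : MaxFib f' x') :
    MaxFib f (g' x') := by
  obtain ⟨i, hi, hpb⟩ := GrothLib.FibreBC.exists_isPullback_fiber hc (f' x')
  have : Flat (Spec.map (g.residueFieldMap (f' x'))) := flat_to_spec_residueField _
  have : Flat i := MorphismProperty.of_isPullback hpb.flip ‹_›
  have hz : f.fiberι (g (f' x')) (i (f'.asFiber x')) = g' x' := by
    rw [← Scheme.Hom.comp_apply, hi, Scheme.Hom.comp_apply, Scheme.Hom.fiberι_asFiber]
  rw [← hz, maxFib_fiberι_iff]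
  intro w hw
  obtain ⟨w', hw', rfl⟩ := Flat.generalizingMap i hw
  rw [(maxFib_asFiber_iff f' x').1 hx' w' hw']

/-- Relative dimension at a generic point of a fibre is unchanged by base change. -/
theorem resTrdeg_of_isPullback [LocallyOfFiniteType f] (hc : IsPullback g' f' f g) {x' : X'}
    (hx' : MaxFib f' x') : resTrdeg f' x' = resTrdeg f (g' x') := by
  have hm := maxFib_of_isPullback hc hx'
  obtain ⟨i, hi, hpb⟩ := GrothLib.FibreBC.exists_isPullback_fiber hc (f' x')
  let y := g (f' x')
  let z' := f'.asFiber x'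
  let K := Y.residueField y
  let L := Y'.residueField (f' x')
  let φ : Spec L ⟶ Spec K := Spec.map (g.residueFieldMap (f' x'))
  letI : Algebra K L := (g.residueFieldMap (f' x')).hom.toAlgebra
  let q : f.fiber y ⟶ Spec (CommRingCat.of K) := f.fiberToSpecResidueField y
  haveI : LocallyOfFiniteType q := MorphismProperty.pullback_snd f (Y.fromSpecResidueField y) inferInstance
  haveI : LocallyOfFiniteType f' := MorphismProperty.of_isPullback hc inferInstance
  have hpb' : IsPullback (f'.fiberToSpecResidueField (f' x')) i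
      (Spec.map (CommRingCat.ofHom (algebraMap K L))) q := hpb.flip
  have hz : f.fiberι y (i z') = g' x' := by
    rw [← Scheme.Hom.comp_apply, hi, Scheme.Hom.comp_apply, Scheme.Hom.fiberι_asFiber]
  have hzmax : ∀ w, w ⤳ i z' → w = i z' := by rw [← maxFib_fiberι_iff, hz]; exact hm
  have hz'max : ∀ w, w ⤳ z' → w = z' := (maxFib_asFiber_iff f' x').1 hx'
  have hdim := dim_closure_eq_of_fieldExt (K := K) (L := L) q hpb' z' hz'max
  obtain ⟨n, hn, hdn⟩ := GrothLib.Altitude.exists_trdeg_eq_dim_closure f' x'
  obtain ⟨m, hm', htm⟩ := GrothLib.AffDom.exists_dim_closure (K := K) q (i z')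
  rw [hdn, hm'] at hdim
  have hnm : n = m := by exact_mod_cast hdim
  have h5 := GrothLib.Altitude.trdeg_eq_ptTrdeg_fiber f y (i z')
  rw [hz] at h5
  refine hn.trans ?_
  rw [hnm]
  exact (h5.trans htm).symm

theorem hasRelDim_of_isPullback [LocallyOfFiniteType f] (hc : IsPullback g' f' f g) {r : ℕ}
    (hr : Cyc.HasRelDim f r) : Cyc.HasRelDim f' r := by
  haveI : LocallyOfFiniteType f' := MorphismProperty.of_isPullback hc inferInstance
  rw [hasRelDim_iff] at hr ⊢
  intro x' hx'
  rw [resTrdeg_of_isPullback hc hx', hr _ (maxFib_of_isPullback hc hx')]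

end BaseChange

end GrothLib.CycFlat
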