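import Groth.Agent.Lib.CycFlat.Length
import Groth.Agent.Lib.QCoh.SupportPullback

/-!
Flat pullback of the cycle of a coherent sheaf.
-/

universe u

open CategoryTheory Limits AlgebraicGeometry TopologicalSpace
open scoped TensorProduct

namespace GrothLib.CycFlat

variable {X Y : Scheme.{u}}

theorem length_stalk_pullback (f : X ⟶ Y) [Flat f] (F : Y.Modules) (x : X) :
    Module.length (X.presheaf.stalk x) (((Scheme.Modules.pullback f).obj F).presheaf.stalk x) =
      Module.length (Y.presheaf.stalk (f x)) (F.presheaf.stalk (f x)) * fibLength f x := by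
  let φ := (f.stalkMap x).hom
  algebraize [(f.stalkMap x).hom]
  haveI : Module.Flat (Y.presheaf.stalk (f x)) (X.presheaf.stalk x) := Flat.stalkMap f x
  haveI : IsLocalHom (algebraMap (Y.presheaf.stalk (f x)) (X.presheaf.stalk x)) :=
    inferInstanceAs (IsLocalHom (f.stalkMap x).hom)
  haveI : Module.FaithfullyFlat (Y.presheaf.stalk (f x)) (X.presheaf.stalk x) :=
    Module.FaithfullyFlat.of_flat_of_isLocalHom
  have e : ((OX.stalk x).obj ((Scheme.Modules.pullback f).obj F)) ≅
      (ModuleCat.extendScalars φ).obj ((OX.stalk (f x)).obj F) := (GrothLib.QCoh.stalkPullbackIso f x).app F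
  have h := GrothLib.LenTensor.length_tensor (A := Y.presheaf.stalk (f x)) (B := X.presheaf.stalk x)
    (N := X.presheaf.stalk x) ((OX.stalk (f x)).obj F)
  have e' : ∀ J : Ideal (X.presheaf.stalk x), J • (⊤ : Submodule (X.presheaf.stalk x) (X.presheaf.stalk x)) = J :=
    fun J => by simp
  rw [e'] at h
  refine Eq.trans ?_ h
  exact (e.toLinearEquiv.length_eq : Module.length (X.presheaf.stalk x) ((OX.stalk x).obj ((Scheme.Modules.pullback f).obj F)) = _)

theorem pullFun_sheafFun (f : X ⟶ Y) [Flat f] {δX : X → ℤ} {δY : Y → ℤ} (hX : Cyc.IsDimFun X δX) {c : ℤ}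
    (hc : ∀ x, MaxFib f x → δX x = δY (f x) + c) (k : ℤ) (F : Y.Modules) (hF : Coh.IsCoh F)
    (hdim : ∀ y : Y, Nontrivial (F.presheaf.stalk y) → δY y ≤ k) :
    (∀ x : X, Nontrivial (((Scheme.Modules.pullback f).obj F).presheaf.stalk x) → δX x ≤ k + c) ∧
      Cyc.pullFun f δX δY c (Cyc.sheafFun δY k F) = Cyc.sheafFun δX (k + c) ((Scheme.Modules.pullback f).obj F) := by
  have hsupp : ∀ x : X, Nontrivial (((Scheme.Modules.pullback f).obj F).presheaf.stalk x) →
      Nontrivial (F.presheaf.stalk (f x)) := fun x hx => by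
    have h1 : x ∈ CohB1.support ((Scheme.Modules.pullback f).obj F) := not_subsingleton_iff_nontrivial.2 hx
    rw [GrothLib.QCoh.support_pullback f F hF] at h1
    exact not_subsingleton_iff_nontrivial.1 h1
  refine ⟨fun x hx => ?_, funext fun x => ?_⟩
  · have h1 := (eq_add_iff_maxFib f hX hc x).2
    have h2 := hdim _ (hsupp x hx)
    omega
  obtain ⟨hiff, hle⟩ := eq_add_iff_maxFib f hX hc x
  rw [pullFun_apply]
  by_cases hm : MaxFib f x
  · rw [if_pos (hiff.2 hm)]
    simp only [Cyc.sheafFun]
    have hδ := hiff.2 hm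
    by_cases hk : δY (f x) = k
    · rw [if_pos hk, if_pos (by omega), length_stalk_pullback f F x, ENat.toNat_mul]
      push_cast
      rfl
    · rw [if_neg hk, if_neg (by omega), zero_mul]
  · rw [if_neg fun h => hm (hiff.1 h)]
    simp only [Cyc.sheafFun]
    split_ifs with hk
    · have hne : δX x ≠ δY (f x) + c := fun h => hm (hiff.1 h)
      rcases subsingleton_or_nontrivial (((Scheme.Modules.pullback f).obj F).presheaf.stalk x) with h0 | h0
      · rw [Module.length_eq_zero]; rfl
      · have := hdim _ (hsupp x h0)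
        omega
    · rfl

end GrothLib.CycFlat
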